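import Cfsg.Agent.Lib.J4Pres.Hom

/-!
Witnessing elements of the Mathieu group for the trivial multiplier of the fourth Janko group.
-/

set_option autoImplicit false
set_option maxRecDepth 100000

namespace Cfsg.Agent.J4Mult

open Cfsg Cfsg.Agent.PermCert Cfsg.Agent.Golay Cfsg.Agent.J4Pres
open scoped Pointwise

/-- The element with code `e`. -/
def mk (e : Elt) (h : (validElt 5 24 e && isAutB e) = true) : M24 :=
  ⟨permOf e, permOf_mem_M24 (Bool.and_eq_true_iff.1 h).1 (Bool.and_eq_true_iff.1 h).2⟩

/-- Witness. -/
def w_b1 : M24 := mk (212221885820597625201628661085258003, 268218410571657937858799498451165354) (by decide +kernel)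

/-- Witness. -/
def w_b2 : M24 := mk (959566557682964091032175730791782446, 970194455201459302490288412649267246) (by decide +kernel)

/-- Witness. -/
def w_b3 : M24 := mk (258460188331145140985880804399089152, 213182557614828149791582233336390720) (by decide +kernel)

/-- Witness. -/
def w_uvz : M24 := mk (754556440736481419800863505451171203, 717069527293902641681821417637694759) (by decide +kernel)

/-- Witness. -/
def w_wz : M24 := mk (194147900978734603862482949493893873, 67111033348749811993252666745171529) (by decide +kernel)

/-- Witness. -/
def w_k : M24 := mk (640606647927513350241166120228409665, 468729275780601582335482674101559308) (by decide +kernel)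

/-- Witness. -/
def w_q1 : M24 := mk (45972244642987301733291977285016241, 149329967390429041734296930089636582) (by decide +kernel)

/-- Witness. -/
def w_q2 : M24 := mk (92982824104381606856440224053114486, 665127455095299770264603648052124971) (by decide +kernel)

/-- Witness. -/
def w_ql : M24 := mk (755851501411544014526054571257122292, 647941965366945386920069485454111984) (by decide +kernel)

/-- Witness. -/
def w_qc : M24 := mk (10752742794928868972606766872479988, 637557900186395490358309425025143223) (by decide +kernel)

/-- Witness. -/
def w_r1 : M24 := mk (2867094452408745159475141096415277, 800448233276194813543837276958840887) (by decide +kernel)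

/-- Witness. -/
def w_r2 : M24 := mk (812645581817658569841772924075792023, 7871781635655121461086393376027309) (by decide +kernel)

/-- Witness. -/
def w_rl : M24 := mk (334961872220660146002781428872872228, 182397385379292525244714330525981346) (by decide +kernel)

/-- Witness. -/
def w_rc : M24 := mk (749374346860503594998988332996996557, 183537415210649865029452893500488402) (by decide +kernel)

/-- Witness. -/
def w_rz : M24 := mk (799863587420931714898839171477606818, 227754627865229854456885620660339078) (by decide +kernel)

/-- The image of the central trio. -/
abbrev act (h : M24) : Finset (Finset GolayPt) := (h : Equiv.Perm GolayPt) • trioW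

theorem act_mul (g h : M24) : act (g * h) = (g : Equiv.Perm GolayPt) • act h := by
  simp [act, mul_smul]

theorem act_congr {g h1 h2 : M24} (e : act h1 = act h2) : act (g * h1) = act (g * h2) := by
  rw [act_mul, act_mul, e]

/-- First point of the basic line. -/
def hA : M24 := gy * TrioSystem.gLine⁻¹

/-- Second point of the basic line. -/
def hB : M24 := gy ^ 2 * TrioSystem.gLine⁻¹

/-- Third point of the basic line. -/
def hC : M24 := TrioSystem.gLine⁻¹

/-- The trio of the last relator. -/
def hU : M24 := TrioSystem.gLast⁻¹

/-- Its companion. -/
def hV : M24 := TrioSystem.gFour * TrioSystem.gLast⁻¹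

/-- The third point of their line. -/
def hZ : M24 := w_uvz * hC

/-- The involution of the last relator. -/
def gTwo : M24 := TrioSystem.gFour * TrioSystem.gFour

/-- The auxiliary trio of the first identity. -/
def hQ : M24 := w_ql * hC

/-- A word in the two stabilising generators. -/
def sWord (l : List Bool) : M24 := (l.map fun b => if b then TrioSystem.gS else gx).prod

/-- The odd word of the swap. -/
def oddWord : List Bool := [false, true, true, true, false, true, true, false, true, false, true, true, false, true, false, true, true, false, true, true, false, true, false, true, true]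

/-- The first side of the parity relation. -/
def relL : List Bool := [false, true, true, false, true, true, false, true, false, true, false, true, false, true, false, true, false, true]

/-- The second side of the parity relation. -/
def relR : List Bool := [true, true, false, true, true, false, true, false, true, true, false, true, true, false, true, false, true, false]

theorem fix_x : act gx = act 1 := by
  decide +kernel

theorem fix_s : act TrioSystem.gS = act 1 := by
  decide +kernel

theorem four_sq : gTwo * gTwo = 1 := Subtype.ext (by decide +kernel)

theorem two_fix : act gTwo = act 1 ∧ act (gTwo * hU) = act hU := by decide +kernel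

theorem bil :
    (act (w_b1 * hA) = act hA ∧ act (w_b2 * hA) = act hB ∧ act (w_b3 * hA) = act hC) ∧
      act (w_b1 * hB) = act (w_b2 * hB) ∧ act (w_b1 * hB) = act (w_b3 * hB) := by decide +kernel

theorem uvz : act (w_uvz * hA) = act hU ∧ act (w_uvz * hB) = act hV := by decide +kernel

theorem wz : act (w_wz * hA) = act 1 ∧ act (w_wz * hB) = act hZ := by decide +kernel

theorem swap : (act w_k = act hU ∧ act (w_k * hU) = act 1) ∧ act (w_k * hZ) = act hZ := by decide +kernel

theorem swap_comm : w_k * gTwo = gTwo * w_k := Subtype.ext (by decide +kernel)

theorem swap_word : hZ⁻¹ * w_k * hZ = sWord oddWord := Subtype.ext (by decide +kernel)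

theorem parity_word : sWord relL = sWord relR := Subtype.ext (by decide +kernel)

theorem first_fix : (act w_q1 = act 1 ∧ act w_q2 = act 1) ∧
    act (w_ql * hA) = act (w_q1 * hU) ∧ act (w_ql * hB) = act (w_q2 * hU) := by decide +kernel

theorem first_elt : w_q1 * gTwo * w_q1⁻¹ * (w_q2 * gTwo * w_q2⁻¹) = 1 := Subtype.ext (by decide +kernel)

theorem first_comm : act (w_q2 * gTwo * w_q2⁻¹ * (w_q1 * hU)) = act (w_q1 * hU) ∧
    (act (w_qc * hA) = act (w_q1 * hU) ∧ act (w_qc * hB) = act (w_q2 * hZ)) ∧
    act (w_q2 * gTwo * w_q2⁻¹ * (w_q1 * hZ)) = act (w_q2 * hZ) := by decide +kernel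

theorem second_fix : (act w_r1 = act 1 ∧ act w_r2 = act 1) ∧
    act (w_rl * hA) = act (w_r1 * hU) ∧ act (w_rl * hB) = act (w_r2 * hU) ∧
      act (w_rl * hC) = act hU := by decide +kernel

theorem second_elt : w_r1 * gTwo * w_r1⁻¹ * (w_r2 * gTwo * w_r2⁻¹) = gTwo := Subtype.ext (by decide +kernel)

theorem second_comm : act (w_r2 * gTwo * w_r2⁻¹ * (w_r1 * hU)) = act (w_r1 * hU) ∧
    (act w_rc = act (w_r1 * hU) ∧ act (w_rc * hQ) = act (w_r2 * hZ)) ∧
    act (w_rz * hA) = act (w_r2 * gTwo * w_r2⁻¹ * (w_r1 * hZ)) ∧
      act (w_rz * hB) = act (w_r2 * hZ) ∧ act (w_rz * hC) = act hZ := by decide +kernel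

end Cfsg.Agent.J4Mult
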