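import Cfsg.Prelude.Def_KGroupFacts
import Mathlib.GroupTheory.Subgroup.Center
import Mathlib.GroupTheory.Abelianization.Defs
import Mathlib.Tactic.Group

/-!
A perfect group with trivial multiplier lifts to every finite central extension.
-/

set_option autoImplicit false

namespace Cfsg.Agent.J4Mult

open scoped commutatorElement

variable {Q G Γ : Type} [Group Q] [Group G] [Group Γ]

/-- **Lifting.** -/
theorem exists_lift_of_trivial [Finite Γ] [Finite Q] (hQ : Cfsg.HasCyclicSchurMultiplier Q 1)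
    (hp : commutator Q = ⊤) (σ : Γ →* G) (hs : Function.Surjective σ) (hc : σ.ker ≤ Subgroup.center Γ)
    (ψ : Q →* G) : ∃ ρ : Q →* Γ, σ.comp ρ = ψ := by
  let E : Subgroup (Q × Γ) := (ψ.comp (MonoidHom.fst Q Γ)).eqLocus (σ.comp (MonoidHom.snd Q Γ))
  let p : E →* Q := (MonoidHom.fst Q Γ).comp E.subtype
  have pk : p.ker ≤ Subgroup.center E := by
    rintro ⟨⟨q, γ⟩, he⟩ hk
    have hq : q = 1 := hk
    subst hq
    have hγ : γ ∈ Subgroup.center Γ := hc (by
      have : ψ 1 = σ γ := he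
      rw [MonoidHom.mem_ker, ← this, map_one])
    refine Subgroup.mem_center_iff.2 fun g => Subtype.ext (Prod.ext ?_ ?_)
    · simp
    · exact Subgroup.mem_center_iff.1 hγ g.1.2
  have ps : Function.Surjective p := fun q => by
    obtain ⟨γ, hγ⟩ := hs (ψ q)
    exact ⟨⟨(q, γ), hγ.symm⟩, rfl⟩
  let D : Subgroup E := commutator E
  let p' : D →* Q := p.comp D.subtype
  have pmap : D.map p = ⊤ := by
    simp only [D, commutator_def, Subgroup.map_commutator, Subgroup.map_top_of_surjective p ps]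
    rw [← commutator_def, hp]
  have p's : Function.Surjective p' := fun q => by
    obtain ⟨d, hd, e⟩ : q ∈ D.map p := by rw [pmap]; trivial
    exact ⟨⟨d, hd⟩, e⟩
  have dec : ∀ e : E, ∃ d ∈ D, ∃ k ∈ Subgroup.center E, e = k * d := fun e => by
    obtain ⟨d, hd⟩ := p's (p e)
    exact ⟨d.1, d.2, e * d.1⁻¹, pk (by
      rw [MonoidHom.mem_ker, map_mul, map_inv, show p d.1 = p e from hd, mul_inv_cancel]), by group⟩
  have perf : D ≤ ⁅D, D⁆ := by
    show commutator E ≤ _
    rw [commutator_def, Subgroup.commutator_le]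
    intro a _ b _
    obtain ⟨a', ha', k, hk, rfl⟩ := dec a
    obtain ⟨b', hb', m, hm, rfl⟩ := dec b
    have e : ⁅k * a', m * b'⁆ = ⁅a', b'⁆ := by
      simp only [commutatorElement_def, mul_inv_rev]
      calc k * a' * (m * b') * (a'⁻¹ * k⁻¹) * (b'⁻¹ * m⁻¹)
          = k * (a' * m * b' * a'⁻¹) * k⁻¹ * b'⁻¹ * m⁻¹ := by group
        _ = a' * m * b' * a'⁻¹ * b'⁻¹ * m⁻¹ := by
            rw [← Subgroup.mem_center_iff.1 hk (a' * m * b' * a'⁻¹)]; group
        _ = m * (a' * b' * a'⁻¹ * b'⁻¹) * m⁻¹ := by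
            rw [Subgroup.mem_center_iff.1 hm a']; group
        _ = _ := by rw [← Subgroup.mem_center_iff.1 hm (a' * b' * a'⁻¹ * b'⁻¹)]; group
    rw [e]
    exact Subgroup.commutator_mem_commutator ha' hb'
  have stem : Cfsg.IsStemExtension p' := by
    refine ⟨p's, fun d hd => Subgroup.mem_center_iff.2 fun g => Subtype.ext ?_, fun d _ => ?_⟩
    · exact Subgroup.mem_center_iff.1 (pk (show d.1 ∈ p.ker from hd)) g.1
    · have : Subgroup.map D.subtype ⁅(⊤ : Subgroup D), (⊤ : Subgroup D)⁆ = ⁅D, D⁆ := by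
        rw [Subgroup.map_commutator, ← MonoidHom.range_eq_map, Subgroup.range_subtype]
      obtain ⟨x, hx, hxd⟩ : d.1 ∈ Subgroup.map D.subtype ⁅(⊤ : Subgroup D), (⊤ : Subgroup D)⁆ := by rw [this]; exact perf d.2
      rw [commutator_def]
      rwa [← show x = d from Subtype.ext hxd]
  obtain ⟨π, hπ⟩ := hQ.2 D p' stem
  have inj : Function.Injective p' := by
    refine (MonoidHom.ker_eq_bot_iff p').1 (eq_bot_iff.2 fun d hd => ?_)
    obtain ⟨a, ha⟩ := hπ ⟨d, hd⟩
    rw [Subsingleton.elim a 1, map_one] at ha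
    exact (congrArg Subtype.val ha).symm
  let e := MulEquiv.ofBijective p' ⟨inj, p's⟩
  refine ⟨((MonoidHom.snd Q Γ).comp (E.subtype.comp D.subtype)).comp e.symm.toMonoidHom,
    MonoidHom.ext fun q => ?_⟩
  have h1 : ψ ((e.symm q).1.1.1) = σ ((e.symm q).1.1.2) := (e.symm q).1.2
  rw [show (e.symm q).1.1.1 = q from e.apply_symm_apply q] at h1
  exact h1.symm

end Cfsg.Agent.J4Mult
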