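import Cfsg.Agent.Lib.J4Mult.Data
import Mathlib.GroupTheory.Subgroup.Center

/-!
A central lift of the generators of the fourth Janko group can be adjusted so that the involutions of the
trios are involutions, linear on the basic line and on all its translates.
-/

set_option autoImplicit false

namespace Cfsg.Agent.J4Mult

open Cfsg Cfsg.Agent.J4Pres

variable {Γ : Type*} [Group Γ]

theorem cc {z : Γ} (hz : z ∈ Subgroup.center Γ) (g : Γ) : z * g = g * z :=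
  (Subgroup.mem_center_iff.1 hz g).symm

theorem pull {z : Γ} (hz : z ∈ Subgroup.center Γ) (g h : Γ) : g * (z * h) = z * (g * h) := by
  rw [← mul_assoc, ← cc hz, mul_assoc]

/-- The conjugate of `T` attached to `h`. -/
def tt (ρ : M24 →* Γ) (T : Γ) (h : M24) : Γ := ρ h * T * (ρ h)⁻¹

section

variable (ρ : M24 →* Γ) (T : Γ)

theorem tt_one : tt ρ T 1 = T := by simp [tt]

theorem tt_conj (g h : M24) : ρ g * tt ρ T h * (ρ g)⁻¹ = tt ρ T (g * h) := by
  simp only [tt, map_mul]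
  group

theorem tt_mul_right (g h : M24) : ρ g * tt ρ T h = tt ρ T (g * h) * ρ g := by
  rw [← tt_conj]
  group

theorem tt_central {w : Γ} (hw : w ∈ Subgroup.center Γ) (h : M24) : tt ρ (w * T) h = w * tt ρ T h := by
  simp only [tt]
  rw [pull hw, mul_assoc]

theorem tt_congr (stab : ∀ k : M24, act k = act 1 → ρ k * T * (ρ k)⁻¹ * T⁻¹ ∈ Subgroup.center Γ)
    {h1 h2 : M24} (e : act h1 = act h2) : ∃ a ∈ Subgroup.center Γ, tt ρ T h2 = a * tt ρ T h1 := by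
  have hk : act (h1⁻¹ * h2) = act 1 := by
    rw [← act_congr e, inv_mul_cancel]
  refine ⟨_, stab _ hk, ?_⟩
  rw [← tt_central ρ T (stab _ hk), mul_assoc (ρ (h1⁻¹ * h2) * T * (ρ (h1⁻¹ * h2))⁻¹), inv_mul_cancel,
    mul_one]
  simp only [tt, map_mul, map_inv]
  group

end

theorem cubed_square {a b c d c0 : Γ} (hd : d ∈ Subgroup.center Γ) (h0 : c0 ∈ Subgroup.center Γ)
    (ha : a * a = c0) (hb : b * b = c0) (hc : c * c = c0) (h : a * b * c = d) :
    a * b = d * c0⁻¹ * c ∧ a * b = d * d * (c0 * c0 * c0)⁻¹ * (b * a) := by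
  have h1 : a * b = d * c⁻¹ := by rw [← h]; group
  have hci : c⁻¹ = c0⁻¹ * c := by rw [← hc]; group
  have hai : a⁻¹ = c0⁻¹ * a := by rw [← ha]; group
  have hbi : b⁻¹ = c0⁻¹ * b := by rw [← hb]; group
  have h0i := inv_mem h0
  have hdi := inv_mem hd
  have hab : a * b = d * c0⁻¹ * c := by rw [h1, hci, mul_assoc]
  refine ⟨hab, ?_⟩
  have e2 : b * a = c0 * c0 * (c * d⁻¹) := by
    have : c * d⁻¹ = b⁻¹ * a⁻¹ := by rw [← h]; group
    rw [this, hbi, hai, mul_assoc c0⁻¹, pull h0i b a]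
    group
  rw [hab, e2, ← cc hdi c]
  have cdc : Commute d c0 := cc hd c0
  have key : d * c0⁻¹ = d * d * (c0 * c0 * c0)⁻¹ * (c0 * c0 * d⁻¹) := by
    have q1 : c0 * c0 * d⁻¹ = d⁻¹ * (c0 * c0) := (cc hdi _).symm
    rw [q1]
    have q2 : (c0 * c0 * c0)⁻¹ * d⁻¹ = d⁻¹ * (c0 * c0 * c0)⁻¹ := (cc hdi _).symm
    calc d * c0⁻¹ = d * d * d⁻¹ * (c0 * c0 * c0)⁻¹ * (c0 * c0) := by group
      _ = d * d * (d⁻¹ * (c0 * c0 * c0)⁻¹) * (c0 * c0) := by group
      _ = _ := by rw [← q2]; group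
  rw [key]
  group

/-- A central lift with the relations modulo the centre. -/
structure Sys (Γ : Type*) [Group Γ] where
  /-- The lift of the Mathieu group. -/
  ρ : M24 →* Γ
  /-- The lift of the involution of the central trio. -/
  T : Γ
  sq : T * T ∈ Subgroup.center Γ
  stab : ∀ k : M24, act k = act 1 → ρ k * T * (ρ k)⁻¹ * T⁻¹ ∈ Subgroup.center Γ
  line : tt ρ T hA * tt ρ T hB * tt ρ T hC ∈ Subgroup.center Γ
  last : (ρ TrioSystem.gFour * T * tt ρ T hU) ^ 2 ∈ Subgroup.center Γ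

namespace Sys

variable (S : Sys Γ)

theorem tt_sq (h : M24) : tt S.ρ S.T h * tt S.ρ S.T h = S.T * S.T := by
  have : tt S.ρ S.T h * tt S.ρ S.T h = S.ρ h * (S.T * S.T) * (S.ρ h)⁻¹ := by simp only [tt]; group
  rw [this, ← cc S.sq, mul_assoc, mul_inv_cancel, mul_one]

theorem pair_const {g h1 h2 : M24} (e1 : act (g * hA) = act h1) (e2 : act (g * hB) = act h2) :
    tt S.ρ S.T h1 * tt S.ρ S.T h2 =
      (S.T * S.T * (S.T * S.T) * (S.T * S.T))⁻¹ *
        ((tt S.ρ S.T hA * tt S.ρ S.T hB * tt S.ρ S.T hC) * (tt S.ρ S.T hA * tt S.ρ S.T hB * tt S.ρ S.T hC)) *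
        (tt S.ρ S.T h2 * tt S.ρ S.T h1) := by
  set d := tt S.ρ S.T hA * tt S.ρ S.T hB * tt S.ρ S.T hC with hd
  have h := (cubed_square S.line S.sq (S.tt_sq hA) (S.tt_sq hB) (S.tt_sq hC) hd.symm).2
  set e := d * d * (S.T * S.T * (S.T * S.T) * (S.T * S.T))⁻¹ with he
  have hs3 : (S.T * S.T * (S.T * S.T) * (S.T * S.T))⁻¹ ∈ Subgroup.center Γ :=
    inv_mem (mul_mem (mul_mem S.sq S.sq) S.sq)
  have hec : e ∈ Subgroup.center Γ := mul_mem (mul_mem S.line S.line) hs3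
  rw [show (S.T * S.T * (S.T * S.T) * (S.T * S.T))⁻¹ * (d * d) = e from cc hs3 _]
  obtain ⟨a, ha, e1'⟩ := tt_congr S.ρ S.T S.stab e1
  obtain ⟨b, hb, e2'⟩ := tt_congr S.ρ S.T S.stab e2
  have hg : tt S.ρ S.T (g * hA) * tt S.ρ S.T (g * hB) = e * (tt S.ρ S.T (g * hB) * tt S.ρ S.T (g * hA)) := by
    rw [← tt_conj, ← tt_conj]
    calc S.ρ g * tt S.ρ S.T hA * (S.ρ g)⁻¹ * (S.ρ g * tt S.ρ S.T hB * (S.ρ g)⁻¹)
        = S.ρ g * (tt S.ρ S.T hA * tt S.ρ S.T hB) * (S.ρ g)⁻¹ := by group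
      _ = S.ρ g * (e * (tt S.ρ S.T hB * tt S.ρ S.T hA)) * (S.ρ g)⁻¹ := by rw [h]
      _ = _ := by rw [pull hec]; group
  rw [e1', e2']
  simp only [mul_assoc]
  rw [pull hb (tt S.ρ S.T (g * hA)), hg, pull ha (tt S.ρ S.T (g * hB)), pull hec b, pull hec a]
  congr 1
  rw [← mul_assoc, ← mul_assoc b a, cc ha b]

theorem cube_eq : S.T * S.T * (S.T * S.T) * (S.T * S.T) =
    tt S.ρ S.T hA * tt S.ρ S.T hB * tt S.ρ S.T hC * (tt S.ρ S.T hA * tt S.ρ S.T hB * tt S.ρ S.T hC) := by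
  obtain ⟨⟨p1, p2, p3⟩, q2, q3⟩ := bil
  have r1 := S.pair_const (h2 := w_b1 * hB) p1 rfl
  have r2 := S.pair_const (h2 := w_b1 * hB) p2 q2.symm
  have r3 := S.pair_const (h2 := w_b1 * hB) p3 q3.symm
  set d := tt S.ρ S.T hA * tt S.ρ S.T hB * tt S.ρ S.T hC with hd
  set c0 := S.T * S.T with h0
  set e := (c0 * c0 * c0)⁻¹ * (d * d) with he
  have hec : e ∈ Subgroup.center Γ :=
    mul_mem (inv_mem (mul_mem (mul_mem S.sq S.sq) S.sq)) (mul_mem S.line S.line)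
  have hab := (cubed_square S.line S.sq (S.tt_sq hA) (S.tt_sq hB) (S.tt_sq hC) hd.symm).1
  set a := tt S.ρ S.T hA
  set b := tt S.ρ S.T hB
  set c := tt S.ρ S.T hC
  set p := tt S.ρ S.T (w_b1 * hB)
  have hk : d * c0⁻¹ ∈ Subgroup.center Γ := mul_mem S.line (inv_mem S.sq)
  have one : a * b * p = e * e * (p * (a * b)) := by
    rw [mul_assoc, r2, pull hec a, ← mul_assoc a p, r1]
    group
  have two : a * b * p = e * (p * (a * b)) := by
    rw [hab, mul_assoc (d * c0⁻¹), r3, pull hk p, pull hec]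
  have : e = 1 := by
    have := one.symm.trans two
    rw [mul_left_inj] at this
    simpa using this
  rwa [he, inv_mul_eq_one] at this

end Sys

/-- A lift with involutions, linear on the basic line. -/
structure Sys1 (Γ : Type*) [Group Γ] extends Sys Γ where
  sq1 : T * T = 1
  line1 : tt ρ T hA * tt ρ T hB * tt ρ T hC = 1

/-- **The gauge.** -/
theorem Sys.exists_sys1 (S : Sys Γ) :
    ∃ S' : Sys1 Γ, S'.ρ = S.ρ ∧
      S'.T = S.T * S.T * (tt S.ρ S.T hA * tt S.ρ S.T hB * tt S.ρ S.T hC)⁻¹ * S.T := by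
  set d := tt S.ρ S.T hA * tt S.ρ S.T hB * tt S.ρ S.T hC with hd
  set w := S.T * S.T * d⁻¹ with hw
  have hc : w ∈ Subgroup.center Γ := mul_mem S.sq (inv_mem S.line)
  have h3 := S.cube_eq
  rw [← hd] at h3
  have hdi := inv_mem S.line
  have hw3 : w * w * w * d = 1 := by
    have e1 : d⁻¹ * (S.T * S.T) = S.T * S.T * d⁻¹ := cc hdi _
    calc w * w * w * d = S.T * S.T * (d⁻¹ * (S.T * S.T)) * d⁻¹ * (S.T * S.T) := by rw [hw]; group
      _ = S.T * S.T * (S.T * S.T) * (d⁻¹ * d⁻¹ * (S.T * S.T)) := by rw [e1]; group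
      _ = S.T * S.T * (S.T * S.T) * ((S.T * S.T) * (d⁻¹ * d⁻¹)) := by rw [cc (mul_mem hdi hdi)]
      _ = (S.T * S.T * (S.T * S.T) * (S.T * S.T)) * (d⁻¹ * d⁻¹) := by group
      _ = 1 := by rw [h3]; group
  have hsq : w * S.T * (w * S.T) = 1 := by
    rw [mul_assoc, pull hc S.T, ← mul_assoc w w]
    calc w * w * (S.T * S.T) = w * w * (S.T * S.T * d⁻¹) * d := by group
      _ = 1 := by rw [← hw, hw3]
  refine ⟨⟨⟨S.ρ, w * S.T, ?_, ?_, ?_, ?_⟩, hsq, ?_⟩, rfl, rfl⟩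
  · rw [hsq]; exact one_mem _
  · intro k hk
    change tt S.ρ (w * S.T) k * (w * S.T)⁻¹ ∈ _
    rw [tt_central _ _ hc, show w * tt S.ρ S.T k * (w * S.T)⁻¹ = w * (tt S.ρ S.T k * S.T⁻¹) * w⁻¹ by group]
    exact mul_mem (mul_mem hc (S.stab k hk)) (inv_mem hc)
  · simp only [tt_central _ _ hc]
    simp only [mul_assoc, pull hc]
    exact mul_mem hc (mul_mem hc (mul_mem hc (by rw [← mul_assoc]; exact S.line)))
  · simp only [tt_central _ _ hc, pow_two, mul_assoc, pull hc]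
    have := S.last
    rw [pow_two] at this
    simp only [mul_assoc] at this
    exact mul_mem hc (mul_mem hc (mul_mem hc (mul_mem hc this)))
  · simp only [tt_central _ _ hc, mul_assoc, pull hc]
    rw [← mul_assoc (tt S.ρ S.T hA), ← hd, ← mul_assoc w w, ← mul_assoc _ w d, hw3]

end Cfsg.Agent.J4Mult
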