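import Cfsg.Agent.Lib.J4Mult.Squares
import Cfsg.Agent.Lib.J4Mult.Lift
import Cfsg.Agent.S2038
import Cfsg.Agent.Lib.Golay.Mathieu

/-!
Stem extensions of the presented fourth Janko group are trivial, given that the Mathieu group maps to it
along the first two generators and that the two stabilising words generate the trio stabiliser.
-/

set_option autoImplicit false
set_option maxRecDepth 100000

namespace Cfsg.Agent.J4Mult

open Cfsg Cfsg.Agent.J4Pres

/-- The relators. -/
abbrev relSet : Set (FreeGroup Spor.J4.Gen) :=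
  Spor.coxRelators Spor.J4.edges ∪ {r | r ∈ Spor.J4.extra}

theorem lift_of_eq_one {r : FreeGroup Spor.J4.Gen} (h : r ∈ Spor.J4.extra) :
    FreeGroup.lift (fun a => (PresentedGroup.of a : Spor.J4)) r = 1 := by
  have e : FreeGroup.lift (fun a => (PresentedGroup.of a : Spor.J4)) = PresentedGroup.mk relSet :=
    FreeGroup.ext_hom _ _ fun a => by rw [FreeGroup.lift_apply_of]; rfl
  rw [e]
  exact PresentedGroup.one_of_mem (Or.inr h)

theorem commutator_M24 : commutator M24 = ⊤ := by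
  haveI := Golay.isSimpleGroup_M24
  rcases (inferInstance : (commutator M24).Normal).eq_bot_or_eq_top with h | h
  · have hne : gx * gy * gx⁻¹ * gy⁻¹ ≠ 1 := fun e => by
      have : (px * py * px⁻¹ * py⁻¹ : Equiv.Perm GolayPt) = 1 := congrArg Subtype.val e
      revert this
      decide +kernel
    refine (hne ?_).elim
    rw [← Subgroup.mem_bot, ← h, commutator_def]
    exact Subgroup.commutator_mem_commutator (Subgroup.mem_top gx) (Subgroup.mem_top gy)
  · exact h

theorem comm_central {Γ : Type*} [Group Γ] {k m : Γ} (hk : k ∈ Subgroup.center Γ)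
    (hm : m ∈ Subgroup.center Γ) (A B : Γ) :
    k * A * (m * B) * (k * A)⁻¹ * (m * B)⁻¹ = A * B * A⁻¹ * B⁻¹ := by
  have hk' := Subgroup.mem_center_iff.1 hk
  have hm' := Subgroup.mem_center_iff.1 hm
  have e1 : k * A * (m * B) * (k * A)⁻¹ = A * (m * B) * A⁻¹ := by
    rw [show k * A * (m * B) * (k * A)⁻¹ = k * (A * (m * B) * A⁻¹) * k⁻¹ by group,
      ← hk' (A * (m * B) * A⁻¹), mul_inv_cancel_right]
  rw [e1, ← mul_assoc A, hm' A,
    show m * A * B * A⁻¹ * (m * B)⁻¹ = m * (A * B * A⁻¹ * B⁻¹) * m⁻¹ by group,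
    ← hm' (A * B * A⁻¹ * B⁻¹), mul_inv_cancel_right]

/-- The trio system of a normalised lift. -/
theorem relators_hold {Γ : Type*} [Group Γ] (S : Sys1 Γ) (H : StabGen) :
    ∀ r ∈ relSet, FreeGroup.lift (fun a => match a with
      | Spor.J4.Gen.x => S.ρ gx
      | Spor.J4.Gen.y => S.ρ gy
      | Spor.J4.Gen.t => S.T) r = 1 := by
  rintro r (⟨a, hx, -⟩ | hr)
  · simp [Spor.coxNodes, Spor.J4.edges] at hx
  have hT : S.T⁻¹ = S.T := inv_eq_of_mul_eq_one_right S.sq1
  have hcx : S.T⁻¹ * (S.ρ gx)⁻¹ * S.T * S.ρ gx = 1 := by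
    rw [mul_assoc _ S.T (S.ρ gx), ← S.comm_gens.1, mul_assoc, inv_mul_cancel_left, inv_mul_cancel]
  have hcs : S.T⁻¹ * (S.ρ TrioSystem.gS)⁻¹ * S.T * S.ρ TrioSystem.gS = 1 := by
    rw [mul_assoc _ S.T (S.ρ TrioSystem.gS), ← S.comm_gens.2, mul_assoc, inv_mul_cancel_left, inv_mul_cancel]
  have hline : (S.ρ gy * ((S.ρ TrioSystem.gLine)⁻¹ * S.T * S.ρ TrioSystem.gLine)) ^ 3 = 1 := by
    have e : (S.ρ TrioSystem.gLine)⁻¹ * S.T * S.ρ TrioSystem.gLine = tt S.ρ S.T hC := by
      simp [hC, tt]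
    have hy3 : S.ρ gy ^ 3 = 1 := by rw [← map_pow, rel_cube, map_one]
    rw [e, conj_cube hy3, tt_conj, ← map_pow, tt_conj]
    exact S.line1
  have hlast : (S.ρ TrioSystem.gFour * S.T *
      ((S.ρ TrioSystem.gLast)⁻¹ * S.T * S.ρ TrioSystem.gLast)) ^ 2 = 1 := by
    have eU : (S.ρ TrioSystem.gLast)⁻¹ * S.T * S.ρ TrioSystem.gLast = tt S.ρ S.T hU := by
      simp [hU, tt]
    have e1 : act (1 : M24) = act TrioSystem.gFour := by
      simp only [act, Subgroup.coe_one]; exact fix_W.2.2.symm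
    have hf : tt S.ρ S.T TrioSystem.gFour = S.T := by rw [← S.act_congr_eq H e1, tt_one]
    have key := S.last_constant H
    have e2 : tt S.ρ S.T hU * tt S.ρ S.T hV = tt S.ρ S.T hZ := by
      rw [← S.act_congr_eq H uvz.1, ← S.act_congr_eq H uvz.2, S.line_img]
      rfl
    have hwz : S.T * tt S.ρ S.T hZ = tt S.ρ S.T hZ * S.T := by
      simpa only [tt_one] using S.comm_pair wz.1 wz.2
    rw [eU, pow_two]
    set u := tt S.ρ S.T hU
    set v := tt S.ρ S.T hV
    set z := tt S.ρ S.T hZ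
    set f := S.ρ TrioSystem.gFour
    have fT : f * S.T = S.T * f := by
      have := tt_mul_right S.ρ S.T TrioSystem.gFour 1
      rwa [tt_one, mul_one, hf] at this
    have fu : f * u = v * f := tt_mul_right S.ρ S.T _ _
    have uu : u * u = 1 := S.inv_tt hU
    have zz : z * z = 1 := S.inv_tt hZ
    have gg : f * f * (f * f) = 1 := by rw [← map_mul, ← map_mul]; exact (congrArg S.ρ four_sq).trans S.ρ.map_one
    have huv : u * v = v * u := S.comm_pair uvz.1 uvz.2
    have zu : z * u = u * z := by rw [← e2, mul_assoc, ← huv]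
    have v_eq : v = u * z := by rw [← e2, ← mul_assoc, uu, one_mul]
    have gu : f * f * u = u * (f * f) := by
      have e : tt S.ρ S.T (gTwo * hU) = u := S.act_congr_eq H two_fix.2
      have := tt_mul_right S.ρ S.T gTwo hU
      rw [e] at this
      rwa [show S.ρ gTwo = f * f from map_mul _ _ _] at this
    rw [show S.ρ gTwo = f * f from map_mul _ _ _] at key
    calc f * S.T * u * (f * S.T * u) = S.T * (f * u) * (S.T * (f * u)) := by rw [fT]; group
      _ = S.T * v * (f * S.T) * v * f := by rw [fu]; group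
      _ = S.T * v * S.T * ((f * v) * f) := by rw [fT]; group
      _ = S.T * v * S.T * (f * f * u) := by rw [mul_assoc f f u, fu]; group
      _ = S.T * u * (z * S.T) * u * (f * f) := by rw [gu, v_eq]; group
      _ = S.T * u * S.T * (z * u) * (f * f) := by rw [← hwz]; group
      _ = (S.T * u * (S.T * u)) * z * (f * f) := by rw [zu]; group
      _ = (f * f) * (z * z) * (f * f) := by rw [key]; group
      _ = 1 := by rw [zz, mul_one, gg]
  simp only [Spor.J4.extra, Set.mem_ofPred_eq, List.mem_cons, List.not_mem_nil, or_false] at hr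
  rcases hr with rfl | rfl | rfl | rfl | rfl | rfl | rfl | rfl | rfl | rfl | rfl | rfl <;>
    simp only [map_mul, map_pow, map_inv, FreeGroup.lift_apply_of, Spor.J4.x, Spor.J4.y, Spor.J4.t]
  · rw [← map_pow, rel_sq, map_one]
  · rw [← map_pow, rel_cube, map_one]
  · rw [← map_mul, ← map_pow, rel_twentythree, map_one]
  · simp only [← map_inv, ← map_mul, ← map_pow]; rw [rel_twelve, map_one]
  · simp only [← map_inv, ← map_mul, ← map_pow]; rw [rel_five, map_one]
  · simp only [← map_inv, ← map_mul, ← map_pow]; rw [rel_six, map_one]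
  · simp only [← map_inv, ← map_mul, ← map_pow]; rw [rel_seven, map_one]
  · rw [pow_two, S.sq1]
  · simpa only [TrioSystem.gS, map_mul, map_pow, map_inv] using hcs
  · exact hcx
  · simpa only [TrioSystem.gLine, map_mul, map_pow, map_inv] using hline
  · simpa only [TrioSystem.gFour, TrioSystem.gLast, map_mul, map_pow, map_inv] using hlast

/-- **Stem extensions are trivial.** -/
theorem ker_eq_bot {Γ : Type} [Group Γ] [Finite Γ] (φ : M24 →* Spor.J4)
    (hx : φ gx = PresentedGroup.of Spor.J4.Gen.x) (hy : φ gy = PresentedGroup.of Spor.J4.Gen.y)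
    (H : StabGen) (σ : Γ →* Spor.J4) (hσ : Cfsg.IsStemExtension σ) : σ.ker = ⊥ := by
  obtain ⟨hs, hcen, hder⟩ := hσ
  haveI : Finite M24 := inferInstance
  obtain ⟨ρ, hρ⟩ := exists_lift_of_trivial Cfsg.Agent.S2038.result commutator_M24 σ hs hcen φ
  obtain ⟨T, hT⟩ := hs (PresentedGroup.of Spor.J4.Gen.t)
  have hρ' : ∀ g, σ (ρ g) = φ g := fun g => DFunLike.congr_fun hρ g
  set t : Spor.J4 := PresentedGroup.of Spor.J4.Gen.t with ht
  have rt : ∀ {r : FreeGroup Spor.J4.Gen}, r ∈ Spor.J4.extra → _ := fun h => lift_of_eq_one h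
  have ht2 : t * t = 1 := by
    have := rt (r := Spor.J4.t ^ 2) (by simp [Spor.J4.extra])
    simpa [pow_two] using this
  have hcx : φ gx * t = t * φ gx := by
    have := rt (r := Spor.J4.t⁻¹ * Spor.J4.x⁻¹ * Spor.J4.t * Spor.J4.x) (by simp [Spor.J4.extra])
    simp only [map_mul, map_inv, FreeGroup.lift_apply_of] at this
    rw [← hx, ← ht, show t⁻¹ * (φ gx)⁻¹ * t * φ gx = (φ gx * t)⁻¹ * (t * φ gx) by group, inv_mul_eq_one] at this
    exact this
  have hcs : φ TrioSystem.gS * t = t * φ TrioSystem.gS := by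
    have := rt (r := _) (show Spor.J4.t⁻¹ * (Spor.J4.y * Spor.J4.x * Spor.J4.y * ((Spor.J4.x * (Spor.J4.y⁻¹)) ^ 2) *
      ((Spor.J4.x * Spor.J4.y) ^ 3))⁻¹ * Spor.J4.t * (Spor.J4.y * Spor.J4.x * Spor.J4.y *
        ((Spor.J4.x * (Spor.J4.y⁻¹)) ^ 2) * ((Spor.J4.x * Spor.J4.y) ^ 3)) ∈ Spor.J4.extra by simp [Spor.J4.extra])
    simp only [map_mul, map_inv, map_pow, FreeGroup.lift_apply_of, ← hx, ← hy, ← ht] at this
    simp only [← map_mul, ← map_pow, ← map_inv φ] at this
    rw [show gy * gx * gy * (gx * gy⁻¹) ^ 2 * (gx * gy) ^ 3 = TrioSystem.gS from rfl, map_inv,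
      show t⁻¹ * (φ TrioSystem.gS)⁻¹ * t * φ TrioSystem.gS =
        (φ TrioSystem.gS * t)⁻¹ * (t * φ TrioSystem.gS) by group, inv_mul_eq_one] at this
    exact this
  have hcomm : ∀ k : M24, act k = act 1 → φ k * t = t * φ k := fun k hk => by
    refine Subgroup.mem_centralizer_singleton_iff.1 (?_ : φ k ∈ Subgroup.centralizer {t})
    refine (Subgroup.closure_le ((Subgroup.centralizer {t}).comap φ)).2 ?_ (H _ hk)
    rintro g (rfl | rfl)
    · exact Subgroup.mem_centralizer_singleton_iff.2 hcx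
    · exact Subgroup.mem_centralizer_singleton_iff.2 hcs
  have htt : ∀ h, σ (tt ρ T h) = φ h * t * (φ h)⁻¹ := fun h => by simp [tt, hρ', hT]
  have hlineK : tt ρ T hA * tt ρ T hB * tt ρ T hC ∈ σ.ker := by
      have := rt (r := _) (show (Spor.J4.y * ((Spor.J4.y * Spor.J4.x * (Spor.J4.y⁻¹) * Spor.J4.x * Spor.J4.y *
        Spor.J4.x * (Spor.J4.y⁻¹) * Spor.J4.x)⁻¹ * Spor.J4.t * (Spor.J4.y * Spor.J4.x * (Spor.J4.y⁻¹) * Spor.J4.x *
          Spor.J4.y * Spor.J4.x * (Spor.J4.y⁻¹) * Spor.J4.x))) ^ 3 ∈ Spor.J4.extra by simp [Spor.J4.extra])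
      simp only [map_mul, map_inv, map_pow, FreeGroup.lift_apply_of, ← hx, ← hy, ← ht] at this
      rw [MonoidHom.mem_ker, map_mul, map_mul, htt, htt, htt]
      simp only [hA, hB, hC, map_mul, map_inv, map_pow, TrioSystem.gLine, inv_inv] at this ⊢
      have hy3 : φ gy ^ 3 = 1 := by rw [← map_pow, rel_cube, map_one]
      rw [conj_cube hy3] at this
      rw [← this]
      group
  let S0 : Sys Γ :=
  { ρ := ρ
    T := T
    sq := hcen (by rw [MonoidHom.mem_ker, map_mul, hT, ht2])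
    stab := fun k hk => hcen (by
      rw [MonoidHom.mem_ker, map_mul, map_mul, map_mul, map_inv, map_inv, hρ', hT, hcomm k hk]
      group)
    line := hcen hlineK
    last := hcen (by
      have := rt (r := _) (show (((Spor.J4.y * Spor.J4.x * Spor.J4.y * Spor.J4.x * Spor.J4.y * Spor.J4.x * Spor.J4.y) ^ 3) *
        Spor.J4.t * ((((Spor.J4.x * Spor.J4.y) ^ 3) * Spor.J4.y * ((Spor.J4.x * Spor.J4.y) ^ 6) * Spor.J4.y)⁻¹ *
          Spor.J4.t * (((Spor.J4.x * Spor.J4.y) ^ 3) * Spor.J4.y * ((Spor.J4.x * Spor.J4.y) ^ 6) * Spor.J4.y))) ^ 2 ∈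
          Spor.J4.extra by simp [Spor.J4.extra])
      simp only [map_mul, map_inv, map_pow, FreeGroup.lift_apply_of, ← hx, ← hy, ← ht] at this
      rw [MonoidHom.mem_ker, map_pow, map_mul, map_mul, htt, hρ', hT]
      simp only [hU, TrioSystem.gFour, TrioSystem.gLast, map_mul, map_inv, map_pow, inv_inv]
      exact this) }
  obtain ⟨S, eρ, eT⟩ := S0.exists_sys1
  let f : Spor.J4 →* Γ := PresentedGroup.toGroup (relators_hold S H)
  have k1 : σ (tt S0.ρ S0.T hA * tt S0.ρ S0.T hB * tt S0.ρ S0.T hC) = 1 := by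
    exact MonoidHom.mem_ker.1 hlineK
  have hsec : σ.comp f = MonoidHom.id Spor.J4 := PresentedGroup.ext fun a => by
    cases a with
    | x => simp [f, eρ, S0, hρ', hx]
    | y => simp [f, eρ, S0, hρ', hy]
    | t =>
      show σ (f (PresentedGroup.of Spor.J4.Gen.t)) = t
      rw [show f (PresentedGroup.of Spor.J4.Gen.t) = S.T from PresentedGroup.toGroup.of _, eT, map_mul, map_mul,
        map_inv, k1, map_mul, hT, inv_one, mul_one, ht2, one_mul]
  have hfid : ∀ x, σ (f x) = x := fun x => DFunLike.congr_fun hsec x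
  have hf : ∀ g : Γ, ∃ k ∈ Subgroup.center Γ, ∃ x, g = k * f x := fun g =>
    ⟨g * (f (σ g))⁻¹, hcen (by rw [MonoidHom.mem_ker, map_mul, map_inv, hfid, mul_inv_cancel]), σ g, by simp⟩
  have hc : commutator Γ ≤ f.range := by
    rw [commutator_def, Subgroup.commutator_le]
    intro a _ b _
    obtain ⟨k, hk, x, ea⟩ := hf a
    obtain ⟨m, hm, y, eb⟩ := hf b
    refine ⟨x * y * x⁻¹ * y⁻¹, ?_⟩
    conv_rhs => rw [ea, eb]
    simp only [commutatorElement_def, map_mul, map_inv]
    exact (comm_central hk hm _ _).symm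
  refine eq_bot_iff.2 fun g hg => ?_
  obtain ⟨x, rfl⟩ := hc (hder hg)
  have : σ (f x) = 1 := hg
  rw [hfid] at this
  simp [this]

end Cfsg.Agent.J4Mult
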