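import Cfsg.Agent.Lib.J4Mult.Lines

/-!
The sign character of the trio stabiliser is trivial in a central lift of the fourth Janko group.
-/

set_option autoImplicit false
set_option maxRecDepth 100000

namespace Cfsg.Agent.J4Mult

open Cfsg Cfsg.Agent.J4Pres

variable {Γ : Type*} [Group Γ]

theorem mul_mul_central {a b : Γ} (hb : b ∈ Subgroup.center Γ) (X Y : Γ) :
    a * X * (b * Y) = a * b * (X * Y) := by
  rw [mul_assoc, pull hb X, ← mul_assoc]

namespace Sys1

variable (S : Sys1 Γ)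

theorem inv_tt (h : M24) : tt S.ρ S.T h * tt S.ρ S.T h = 1 := (S.tt_sq h).trans S.sq1

theorem congr_sign {h1 h2 : M24} (e : act h1 = act h2) :
    ∃ a ∈ Subgroup.center Γ, a * a = 1 ∧ tt S.ρ S.T h2 = a * tt S.ρ S.T h1 := by
  obtain ⟨a, ha, h⟩ := tt_congr S.ρ S.T S.stab e
  refine ⟨a, ha, ?_, h⟩
  have := S.inv_tt h2
  rwa [h, mul_assoc, pull ha (tt S.ρ S.T h1), ← mul_assoc a a, S.inv_tt, mul_one] at this

theorem line_img (g : M24) :
    tt S.ρ S.T (g * hA) * tt S.ρ S.T (g * hB) = tt S.ρ S.T (g * hC) := by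
  rw [← tt_conj, ← tt_conj, ← tt_conj]
  have : tt S.ρ S.T hA * tt S.ρ S.T hB = tt S.ρ S.T hC :=
    (eq_inv_of_mul_eq_one_left S.line1).trans (inv_eq_of_mul_eq_one_right (S.inv_tt hC))
  rw [← this]
  group

theorem comm_pair {g h1 h2 : M24} (e1 : act (g * hA) = act h1) (e2 : act (g * hB) = act h2) :
    tt S.ρ S.T h1 * tt S.ρ S.T h2 = tt S.ρ S.T h2 * tt S.ρ S.T h1 := by
  rw [S.pair_const e1 e2, ← S.cube_eq, inv_mul_cancel, one_mul]

theorem comm_congr {h1 h2 k1 k2 : M24} (e1 : act h1 = act k1) (e2 : act h2 = act k2)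
    (h : tt S.ρ S.T h1 * tt S.ρ S.T h2 = tt S.ρ S.T h2 * tt S.ρ S.T h1) :
    tt S.ρ S.T k1 * tt S.ρ S.T k2 = tt S.ρ S.T k2 * tt S.ρ S.T k1 := by
  obtain ⟨a, ha, -, ea⟩ := S.congr_sign e1
  obtain ⟨b, hb, -, eb⟩ := S.congr_sign e2
  rw [ea, eb]
  simp only [mul_assoc]
  rw [pull hb (tt S.ρ S.T h1), pull ha (tt S.ρ S.T h2), h, pull ha b]

theorem square_UT :
    ∃ r ∈ Subgroup.center Γ, r * r = 1 ∧
      S.T * tt S.ρ S.T hU * (S.T * tt S.ρ S.T hU) = r * (S.ρ gTwo * tt S.ρ S.T hZ) ∧
        tt S.ρ S.T hU * S.T * (tt S.ρ S.T hU * S.T) = r * (S.ρ gTwo * tt S.ρ S.T hZ) := by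
  obtain ⟨a, ha, ha2, ea⟩ := S.congr_sign (h1 := 1) (h2 := TrioSystem.gFour)
    (show act 1 = act TrioSystem.gFour by simp only [act, Subgroup.coe_one, one_smul]; exact fix_W.2.2.symm)
  obtain ⟨c, hc, hc2, ec⟩ := S.congr_sign two_fix.2.symm
  obtain ⟨p, hp, hp2, ep⟩ := S.congr_sign uvz.1
  obtain ⟨q, hq, hq2, eq⟩ := S.congr_sign uvz.2
  have hwz := S.comm_pair wz.1 wz.2
  have huv := S.comm_pair uvz.1 uvz.2
  rw [tt_one] at ea hwz
  set T := S.T
  set u := tt S.ρ T hU with hu
  set v := tt S.ρ T hV with hv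
  set z := tt S.ρ T hZ with hz
  set f := S.ρ TrioSystem.gFour with hf
  set g := S.ρ gTwo with hg
  have fT : f * T = a * (T * f) := by
    have := tt_mul_right S.ρ T TrioSystem.gFour 1
    rw [tt_one, mul_one, ea] at this
    rw [this, mul_assoc]
  have fu : f * u = v * f := tt_mul_right S.ρ T _ _
  have gf : g = f * f := map_mul S.ρ _ _
  have gu : g * u = c * (u * g) := by
    rw [hg, hu, tt_mul_right, ec, mul_assoc]
  have gv : g * v = c * (v * g) := by
    rw [gf] at gu ⊢
    calc f * f * v = f * (f * f * u) * f⁻¹ := by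
          rw [show v = f * u * f⁻¹ by rw [fu]; group]; group
      _ = f * (c * (u * (f * f))) * f⁻¹ := by rw [gu]
      _ = c * ((f * u) * f) := by rw [pull hc]; group
      _ = _ := by rw [fu]; group
  have gT : g * T = T * g := by
    rw [gf, mul_assoc, fT, pull ha, ← mul_assoc f T, fT, mul_assoc a (T * f) f, ← mul_assoc a a, ha2,
      one_mul, mul_assoc]
  have ez : u * v = p * q * z := by
    rw [ep, eq, mul_assoc, pull hq, show tt S.ρ T (w_uvz * hA) * tt S.ρ T (w_uvz * hB) = z from S.line_img _]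
    group
  have hpq : p * q ∈ Subgroup.center Γ := mul_mem hp hq
  have pq2 : p * q * (p * q) = 1 := by
    rw [mul_assoc, pull hp q, ← mul_assoc, hp2, one_mul, hq2]
  have gz : g * z = z * g := by
    have : g * (u * v) = u * v * g := by
      rw [← mul_assoc, gu, mul_assoc, mul_assoc, gv, pull hc u, ← mul_assoc c c, hc2, one_mul, mul_assoc]
    rw [ez, pull hpq, mul_assoc _ z g, mul_right_inj] at this
    exact this
  have zu : z * u = u * z := by
    have : u * v * u = u * (u * v) := by rw [mul_assoc, huv]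
    rw [ez, mul_assoc _ z u, pull hpq, mul_right_inj] at this
    exact this
  have uu : u * u = 1 := S.inv_tt hU
  have zz : z * z = 1 := S.inv_tt hZ
  have gg : g * g = 1 := by rw [hg, ← map_mul, four_sq, map_one]
  have TT : T * T = 1 := S.sq1
  have v_eq : v = p * q * (u * z) := by rw [← pull hpq, ← ez, ← mul_assoc, uu, one_mul]
  have hR := S.last
  change (f * T * u) ^ 2 ∈ _ at hR
  set R := (f * T * u) ^ 2 with hRdef
  have main : R = a * c * (p * q) * (T * u * (T * u) * (z * g)) := by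
    calc R = f * T * u * (f * T * u) := by rw [hRdef, pow_two]
      _ = a * (T * f) * u * (a * (T * f) * u) := by rw [fT]
      _ = a * a * (T * (f * u) * (T * (f * u))) := by
          rw [mul_assoc a (T * f) u, mul_mul_central ha, mul_assoc T f u]
      _ = T * v * (f * T) * v * f := by rw [ha2, one_mul, fu]; group
      _ = a * (T * v * T * (f * v) * f) := by rw [fT]; simp only [mul_assoc, pull ha]
      _ = a * (T * v * T * (g * u)) := by
          rw [gf, mul_assoc f f u, fu]; group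
      _ = a * c * (T * v * T * u * g) := by rw [gu, pull hc]; group
      _ = a * c * (p * q) * (T * u * (z * T) * u * g) := by
          rw [v_eq, pull hpq T (u * z), mul_assoc (p * q), mul_assoc (p * q), mul_assoc (p * q)]; group
      _ = a * c * (p * q) * (T * u * T * (z * u) * g) := by rw [← hwz]; group
      _ = _ := by rw [zu]; group
  set s := a * c * (p * q)
  have hs : s ∈ Subgroup.center Γ := mul_mem (mul_mem ha hc) hpq
  have hr : s⁻¹ * R ∈ Subgroup.center Γ := mul_mem (inv_mem hs) hR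
  have key : T * u * (T * u) = s⁻¹ * R * (g * z) := by
    rw [main, inv_mul_cancel_left, mul_assoc _ (z * g), mul_assoc z, ← mul_assoc g g, gg, one_mul, zz, mul_one]
  set r := s⁻¹ * R
  have inv_key : u * T * (u * T) = r * (g * z) := by
    have e : u * T * (u * T) = T * (T * u * (T * u)) * T := by
      calc u * T * (u * T) = T * T * (u * T * (u * T)) := by rw [TT, one_mul]
        _ = _ := by group
    rw [e, key, pull hr, mul_assoc r, ← mul_assoc T g, ← gT, mul_assoc g T, hwz, ← mul_assoc g z,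
      mul_assoc (g * z), TT, mul_one]
  refine ⟨r, hr, ?_, key, inv_key⟩
  have : T * u * (T * u) * (u * T * (u * T)) = 1 := by
    calc T * u * (T * u) * (u * T * (u * T)) = T * u * T * (u * u) * T * u * T := by group
      _ = T * u * (T * T) * u * T := by rw [uu]; group
      _ = T * (u * u) * T := by rw [TT]; group
      _ = 1 := by rw [uu, mul_one, TT]
  rw [key, inv_key, mul_assoc, pull hr (g * z), ← mul_assoc r r, mul_assoc g, ← mul_assoc z, ← gz,
    mul_assoc g z z, zz, mul_one, gg, mul_one] at this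
  exact this

theorem odd_comm : S.ρ (sWord oddWord) * S.T = S.T * S.ρ (sWord oddWord) := by
  obtain ⟨r, hr, -, key, key'⟩ := S.square_UT
  obtain ⟨a, ha, ha2, ea⟩ := S.congr_sign swap.1.1.symm
  obtain ⟨b, hb, hb2, eb⟩ := S.congr_sign swap.1.2.symm
  rw [tt_one] at eb
  set T := S.T
  set u := tt S.ρ T hU
  have kT : S.ρ w_k * T * (S.ρ w_k)⁻¹ = a * u := ea
  have ku : S.ρ w_k * u * (S.ρ w_k)⁻¹ = b * T := (tt_conj _ _ _ _).trans eb
  have e : S.ρ w_k * (T * u * (T * u)) * (S.ρ w_k)⁻¹ = u * T * (u * T) := by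
    calc S.ρ w_k * (T * u * (T * u)) * (S.ρ w_k)⁻¹
        = (S.ρ w_k * T * (S.ρ w_k)⁻¹) * (S.ρ w_k * u * (S.ρ w_k)⁻¹) *
            ((S.ρ w_k * T * (S.ρ w_k)⁻¹) * (S.ρ w_k * u * (S.ρ w_k)⁻¹)) := by group
      _ = a * a * (b * b) * (u * T * (u * T)) := by
          rw [kT, ku, mul_mul_central hb, mul_mul_central (mul_mem ha hb),
            mul_assoc a b, pull ha b, ← mul_assoc a a]
      _ = _ := by rw [ha2, hb2, one_mul, one_mul]
  rw [key, key', pull hr, mul_assoc r, mul_right_inj, ← mul_assoc, ← map_mul, swap_comm, map_mul,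
    mul_assoc (S.ρ gTwo), mul_assoc (S.ρ gTwo), mul_right_inj, tt_conj] at e
  have e' := congrArg (fun x => S.ρ hZ⁻¹ * x * (S.ρ hZ⁻¹)⁻¹) e
  simp only [tt_conj, inv_mul_cancel, tt_one, ← mul_assoc, swap_word] at e'
  rwa [tt, mul_inv_eq_iff_eq_mul] at e'

theorem sWord_conj {α β : Γ} (hα : α ∈ Subgroup.center Γ) (hβ : β ∈ Subgroup.center Γ)
    (ex : S.ρ gx * S.T = α * (S.T * S.ρ gx)) (es : S.ρ TrioSystem.gS * S.T = β * (S.T * S.ρ TrioSystem.gS)) :
    ∀ l : List Bool, S.ρ (sWord l) * S.T =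
      α ^ l.count false * β ^ l.count true * (S.T * S.ρ (sWord l)) := by
  intro l
  induction l with
  | nil => simp [sWord]
  | cons h l ih =>
    have hp := mul_mem (pow_mem hα (l.count false)) (pow_mem hβ (l.count true))
    have step : ∀ g : M24, ∀ γ : Γ, γ ∈ Subgroup.center Γ → S.ρ g * S.T = γ * (S.T * S.ρ g) →
        S.ρ (g * sWord l) * S.T =
          γ * (α ^ l.count false * β ^ l.count true) * (S.T * S.ρ (g * sWord l)) := by
      intro g γ hγ eg
      rw [map_mul, mul_assoc, ih, pull hp (S.ρ g), ← mul_assoc (S.ρ g) S.T, eg, mul_assoc γ, mul_assoc S.T,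
        ← mul_assoc (α ^ l.count false * β ^ l.count true) γ, cc hp γ]
    cases h with
    | false =>
      rw [show sWord (false :: l) = gx * sWord l by simp [sWord], step _ α hα ex]
      simp [pow_succ', mul_assoc]
    | true =>
      rw [show sWord (true :: l) = TrioSystem.gS * sWord l by simp [sWord], step _ β hβ es]
      simp [pow_succ', mul_assoc, pull hβ]

theorem comm_gens : S.ρ gx * S.T = S.T * S.ρ gx ∧
    S.ρ TrioSystem.gS * S.T = S.T * S.ρ TrioSystem.gS := by
  obtain ⟨α, hα, hα2, e1⟩ := S.congr_sign fix_x.symm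
  obtain ⟨β, hβ, hβ2, e2⟩ := S.congr_sign fix_s.symm
  rw [tt_one, tt, mul_inv_eq_iff_eq_mul, mul_assoc] at e1 e2
  have hw := S.sWord_conj hα hβ e1 e2
  have pa : ∀ n, α ^ n = α ^ (n % 2) := fun n => pow_eq_pow_mod n (by rw [pow_two, hα2])
  have pb : ∀ n, β ^ n = β ^ (n % 2) := fun n => pow_eq_pow_mod n (by rw [pow_two, hβ2])
  have h1 := (hw oddWord).symm.trans S.odd_comm
  rw [show oddWord.count false = 9 from rfl, show oddWord.count true = 16 from rfl, pa, pb] at h1
  simp only [Nat.reduceMod, pow_zero, pow_one, mul_one, mul_eq_right] at h1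
  subst h1
  have h2 := (hw relL).symm.trans ((congrArg (fun g => S.ρ g * S.T) parity_word).trans (hw relR))
  rw [parity_word, mul_left_inj, pb, pb (relR.count true)] at h2
  simp only [show relL.count true % 2 = 0 from rfl, show relR.count true % 2 = 1 from rfl, one_pow,
    one_mul, pow_zero, pow_one] at h2
  constructor
  · simpa using e1
  · rw [← h2] at e2; simpa using e2

end Sys1

end Cfsg.Agent.J4Mult
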