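import Cfsg.Agent.Lib.J4Mult.Signs

/-!
The last central constant vanishes: the squares of the products for two pairs are linked by a line.
-/

set_option autoImplicit false
set_option maxRecDepth 100000

namespace Cfsg.Agent.J4Mult

open Cfsg Cfsg.Agent.J4Pres

/-- The two stabilising generators generate the stabiliser of the central trio. -/
def StabGen : Prop := ∀ k : M24, act k = act 1 → k ∈ Subgroup.closure {gx, TrioSystem.gS}

variable {Γ : Type*} [Group Γ]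

theorem split_square {a b c : Γ} (ha : a * a = 1) (hb : b * b = 1) (hbc : b * c = c * b) :
    a * (b * c) * (a * (b * c)) = a * b * (a * b) * (b * (a * c * (a * c)) * b) := by
  symm
  calc a * b * (a * b) * (b * (a * c * (a * c)) * b)
      = a * b * a * (b * b) * a * c * a * c * b := by group
    _ = a * b * (a * a) * c * a * (c * b) := by rw [hb]; group
    _ = _ := by rw [ha, ← hbc]; group

/-- Pushing a conjugation through a product of an element and an involution. -/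
theorem conj_pair {p g2 z2 : Γ} (hp : p * p = 1) (hg : p * g2 = g2 * p) (hz : p * z2 = z2 * p) :
    p * (g2 * z2) * p = g2 * z2 := by
  rw [← mul_assoc p g2, hg, mul_assoc g2 p, hz, mul_assoc g2, mul_assoc z2, hp, mul_one]

/-- The product of two squares. -/
theorem square_prod {r g1 z1 g2 z2 p : Γ} (hr : r ∈ Subgroup.center Γ) (hrr : r * r = 1) (hp : p * p = 1)
    (hg : p * g2 = g2 * p) (hz : p * z2 = z2 * p) :
    r * (g1 * z1) * (p * (r * (g2 * z2)) * p) = g1 * g2 * ((g2⁻¹ * z1 * g2) * z2) := by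
  rw [pull hr p, mul_assoc r (p * (g2 * z2)), conj_pair hp hg hz, mul_mul_central hr, hrr, one_mul]
  group

namespace Sys1

variable (S : Sys1 Γ) (H : StabGen)

include H in
theorem act_congr_eq {h1 h2 : M24} (e : act h1 = act h2) : tt S.ρ S.T h1 = tt S.ρ S.T h2 := by
  have hk : act (h1⁻¹ * h2) = act 1 := by rw [← act_congr e, inv_mul_cancel]
  have : S.ρ (h1⁻¹ * h2) * S.T = S.T * S.ρ (h1⁻¹ * h2) := by
    have := (Subgroup.closure_le ((Subgroup.centralizer {S.T}).comap S.ρ)).2 ?_ (H _ hk)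
    · exact (Subgroup.mem_centralizer_singleton_iff.1 this)
    · rintro g (rfl | rfl)
      · exact Subgroup.mem_centralizer_singleton_iff.2 S.comm_gens.1
      · exact Subgroup.mem_centralizer_singleton_iff.2 S.comm_gens.2
  calc tt S.ρ S.T h1 = tt S.ρ (S.ρ (h1⁻¹ * h2) * S.T * (S.ρ (h1⁻¹ * h2))⁻¹) h1 := by
        rw [this, mul_assoc, mul_inv_cancel, mul_one]
    _ = _ := by simp only [tt, map_mul, map_inv]; group

include H in
theorem pair_comm {h1 h2 k1 k2 : M24} (e1 : act h1 = act k1) (e2 : act h2 = act k2)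
    (h : tt S.ρ S.T h1 * tt S.ρ S.T h2 = tt S.ρ S.T h2 * tt S.ρ S.T h1) :
    tt S.ρ S.T k1 * tt S.ρ S.T k2 = tt S.ρ S.T k2 * tt S.ρ S.T k1 := by
  rwa [← S.act_congr_eq H e1, ← S.act_congr_eq H e2]

include H in
theorem square_moved {r : Γ} (hr : r ∈ Subgroup.center Γ)
    (key : S.T * tt S.ρ S.T hU * (S.T * tt S.ρ S.T hU) = r * (S.ρ gTwo * tt S.ρ S.T hZ))
    {h : M24} (hh : act h = act 1) :
    S.T * tt S.ρ S.T (h * hU) * (S.T * tt S.ρ S.T (h * hU)) =
      r * (S.ρ (h * gTwo * h⁻¹) * tt S.ρ S.T (h * hZ)) := by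
  have hT : tt S.ρ S.T h = S.T := by rw [S.act_congr_eq H hh, tt_one]
  have e := congrArg (fun x => S.ρ h * x * (S.ρ h)⁻¹) key
  calc S.T * tt S.ρ S.T (h * hU) * (S.T * tt S.ρ S.T (h * hU))
      = tt S.ρ S.T h * tt S.ρ S.T (h * hU) * (tt S.ρ S.T h * tt S.ρ S.T (h * hU)) := by rw [hT]
    _ = S.ρ h * (S.T * tt S.ρ S.T hU * (S.T * tt S.ρ S.T hU)) * (S.ρ h)⁻¹ := by
        rw [← tt_conj _ _ h hU]
        simp only [tt]
        group
    _ = S.ρ h * (r * (S.ρ gTwo * tt S.ρ S.T hZ)) * (S.ρ h)⁻¹ := e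
    _ = _ := by rw [pull hr, ← tt_conj _ _ h hZ, map_mul, map_mul, map_inv]; group

include H in
theorem moved_data {h1 h2 : M24}
    (hfix : act (h2 * gTwo * h2⁻¹ * (h1 * hU)) = act (h1 * hU)) :
    tt S.ρ S.T (h1 * hU) * S.ρ (h2 * gTwo * h2⁻¹) = S.ρ (h2 * gTwo * h2⁻¹) * tt S.ρ S.T (h1 * hU) ∧
      (S.ρ (h2 * gTwo * h2⁻¹))⁻¹ * tt S.ρ S.T (h1 * hZ) * S.ρ (h2 * gTwo * h2⁻¹) =
        tt S.ρ S.T (h2 * gTwo * h2⁻¹ * (h1 * hZ)) := by
  set g2 := h2 * gTwo * h2⁻¹ with hg2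
  have hinv : g2⁻¹ = g2 := inv_eq_of_mul_eq_one_right (by
    rw [hg2, show h2 * gTwo * h2⁻¹ * (h2 * gTwo * h2⁻¹) = h2 * (gTwo * gTwo) * h2⁻¹ by group, four_sq, mul_one,
      mul_inv_cancel])
  refine ⟨?_, ?_⟩
  · rw [tt_mul_right _ _ g2, S.act_congr_eq H hfix]
  · rw [← tt_conj _ _ g2, ← map_inv, hinv]

include H in
theorem first_identity : S.T * tt S.ρ S.T hQ = tt S.ρ S.T hQ * S.T := by
  obtain ⟨r, hr, hrr, key, -⟩ := S.square_UT
  obtain ⟨⟨f1, f2⟩, l1, l2⟩ := first_fix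
  obtain ⟨c1, ⟨c2, c3⟩, c4⟩ := first_comm
  have k1 := S.square_moved H hr key f1
  have k2 := S.square_moved H hr key f2
  obtain ⟨hg, hz⟩ := S.moved_data H c1
  have hpz := S.comm_pair c2 c3
  have hq : tt S.ρ S.T hQ = tt S.ρ S.T (w_q1 * hU) * tt S.ρ S.T (w_q2 * hU) := by
    rw [hQ, ← S.line_img, S.act_congr_eq H l1, S.act_congr_eq H l2]
  have hsq := split_square (a := S.T) S.sq1 (S.inv_tt (w_q1 * hU)) (S.comm_pair l1 l2)
  rw [← hq, k1, k2, square_prod hr hrr (S.inv_tt _) hg hpz, hz, ← map_mul, first_elt, map_one, one_mul,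
    S.act_congr_eq H c4, S.inv_tt] at hsq
  set q := tt S.ρ S.T hQ
  have e1 : S.T * q * (q * S.T) = 1 := by rw [mul_assoc, ← mul_assoc q, S.inv_tt, one_mul, S.sq1]
  calc S.T * q = S.T * q * (S.T * q) * (q * S.T) := by rw [mul_assoc (S.T * q), e1, mul_one]
    _ = q * S.T := by rw [hsq, one_mul]

include H in
theorem last_constant :
    S.T * tt S.ρ S.T hU * (S.T * tt S.ρ S.T hU) = S.ρ gTwo * tt S.ρ S.T hZ := by
  obtain ⟨r, hr, hrr, key, -⟩ := S.square_UT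
  obtain ⟨⟨f1, f2⟩, l1, l2, l3⟩ := second_fix
  obtain ⟨c1, ⟨c2, c3⟩, c4, c5, c6⟩ := second_comm
  have k1 := S.square_moved H hr key f1
  have k2 := S.square_moved H hr key f2
  obtain ⟨hg, hz⟩ := S.moved_data H c1
  have hpz : tt S.ρ S.T (w_r1 * hU) * tt S.ρ S.T (w_r2 * hZ) =
      tt S.ρ S.T (w_r2 * hZ) * tt S.ρ S.T (w_r1 * hU) := by
    have e := congrArg (fun x => S.ρ w_rc * x * (S.ρ w_rc)⁻¹) (S.first_identity H)
    have e' : tt S.ρ S.T w_rc * tt S.ρ S.T (w_rc * hQ) = tt S.ρ S.T (w_rc * hQ) * tt S.ρ S.T w_rc := by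
      rw [← tt_conj _ _ w_rc hQ]
      calc tt S.ρ S.T w_rc * (S.ρ w_rc * tt S.ρ S.T hQ * (S.ρ w_rc)⁻¹)
          = S.ρ w_rc * (S.T * tt S.ρ S.T hQ) * (S.ρ w_rc)⁻¹ := by simp only [tt]; group
        _ = S.ρ w_rc * (tt S.ρ S.T hQ * S.T) * (S.ρ w_rc)⁻¹ := e
        _ = _ := by simp only [tt]; group
    exact S.pair_comm H c2 c3 e'
  have hq : tt S.ρ S.T hU = tt S.ρ S.T (w_r1 * hU) * tt S.ρ S.T (w_r2 * hU) := by
    rw [← S.act_congr_eq H l3, ← S.line_img, S.act_congr_eq H l1, S.act_congr_eq H l2]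
  have hsq := split_square (a := S.T) S.sq1 (S.inv_tt (w_r1 * hU)) (S.comm_pair l1 l2)
  rw [← hq, k1, k2, square_prod hr hrr (S.inv_tt _) hg hpz, hz, ← map_mul, second_elt,
    ← S.act_congr_eq H c4, ← S.act_congr_eq H c5, S.line_img, S.act_congr_eq H c6] at hsq
  exact hsq

end Sys1

end Cfsg.Agent.J4Mult
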