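import Cfsg.Agent.Lib.J4Mult.Main
import Cfsg.Agent.Lib.J4Pres.Bound.TrioStab

/-!
The multiplier of the presented fourth Janko group is trivial once it is finite and the Mathieu group maps to it.
-/

set_option autoImplicit false

namespace Cfsg.Agent.J4Mult

open Cfsg Cfsg.Agent.J4Pres
open scoped Pointwise

theorem stabGen : StabGen := fun _ hk =>
  J4Bound.TrioStab.mem_closure_of_fix (hk.trans (by simp only [act, Subgroup.coe_one]; exact one_smul (Equiv.Perm GolayPt) trioW))

/-- **The multiplier is trivial.** -/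
theorem hasMultiplier [Finite Spor.J4] (φ : M24 →* Spor.J4) (hx : φ gx = PresentedGroup.of Spor.J4.Gen.x)
    (hy : φ gy = PresentedGroup.of Spor.J4.Gen.y) : Cfsg.HasCyclicSchurMultiplier Cfsg.Spor.J4 1 := by
  refine ⟨⟨Cfsg.Spor.J4, inferInstance, inferInstance, MonoidHom.id _, ⟨fun g => ⟨g, rfl⟩,
    fun a ha => by rw [show a = 1 from ha]; exact one_mem _, fun a ha => by rw [show a = 1 from ha]; exact one_mem _⟩,
    ?_⟩, fun Γ _ _ τ hτ => ?_⟩
  · haveI : Subsingleton ↥(MonoidHom.id Cfsg.Spor.J4).ker := ⟨fun a b => Subtype.ext (a.2.trans b.2.symm)⟩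
    exact ⟨{ toFun := fun _ => 1, invFun := fun _ => 1, left_inv := fun _ => Subsingleton.elim _ _,
             right_inv := fun _ => Subsingleton.elim _ _, map_mul' := fun _ _ => (one_mul 1).symm }⟩
  · have h := ker_eq_bot φ hx hy stabGen τ hτ
    exact ⟨1, fun x => ⟨1, Subtype.ext ((Subgroup.mem_bot).1 (h ▸ x.2)).symm⟩⟩

end Cfsg.Agent.J4Mult
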